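import Groth.Agent.Lib.GrTilde.Amp
import Groth.Agent.Lib.GrTilde.FiniteType
import Groth.Agent.Lib.Ample.FiniteGen
import Groth.Agent.Lib.Ample.ModTwistQcoh
import Groth.Agent.Lib.OX.TensorAssoc
import Groth.Agent.Lib.OX.LocFreeTensor
import Groth.Agent.Lib.Euler.TensorSupport
import Groth.Agent.Lib.GradedAlg.Basic

/-!
# Proj of a Noetherian graded ring: a degree whose twist is ample
-/

universe u

set_option autoImplicit false
set_option backward.isDefEq.respectTransparency false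

open AlgebraicGeometry CategoryTheory CategoryTheory.Limits TopologicalSpace Opposite

noncomputable section

namespace GrothLib.GrNoeth9

open GrothLib.GrTilde

/-- `(M ⊗ L) ⊗ L' ≅ M` if `L ⊗ L' ≅ O`. -/
def untwistIso {X : Scheme.{u}} (M : X.Modules) {L L' : X.Modules}
    (e : CohB1.tensorMod L L' ≅ Coh.structureModule X) : CohB1.tensorMod (CohB1.tensorMod M L) L' ≅ M :=
  OX.tensorAssoc M L L' ≪≫ ((DCoh.tensorBi (X := X)).obj M).mapIso e ≪≫ Euler.tFUnitIso M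

/-- A free presentation of a twist gives one by copies of the inverse twist. -/
theorem exists_epi_inverse {X : Scheme.{u}} {M L L' P : X.Modules} {k : ℕ} (p : FlatMod.freeMod X k ⟶ P) [Epi p]
    (d : P ≅ CohB1.tensorMod M L) (e : CohB1.tensorMod L L' ≅ Coh.structureModule X) :
    ∃ q : (∐ fun _ : Fin k => L') ⟶ M, Epi q := by
  let G : X.Modules ⥤ X.Modules := (DCoh.tensorBi (X := X)).flip.obj L'
  haveI : PreservesColimitsOfSize.{0, 0} G := OX.preservesSmallestColimits_tensorBi_flip_obj L'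
  haveI : Epi (G.map (p ≫ d.hom)) := inferInstance
  let s : G.obj (FlatMod.freeMod X k) ≅ ∐ fun _ : Fin k => L' :=
    PreservesCoproduct.iso G (fun _ : Fin k => Coh.structureModule X) ≪≫
      Sigma.mapIso fun _ : Fin k => OX.tensorUnitLeftIso L'
  let b : G.obj (CohB1.tensorMod M L) ≅ M := untwistIso M e
  exact ⟨s.inv ≫ G.map (p ≫ d.hom) ≫ b.hom, inferInstance⟩

variable {R A : Type u} [CommRing R] [CommRing A] [Algebra R A] {𝒜 : ℕ → Submodule R A} [GradedAlgebra 𝒜]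

variable (𝒜) in
/-- Some degree has a nonvanishing element at every point. -/
def Covers (N : ℕ) : Prop := 0 < N ∧ ∀ x : Proj 𝒜, ∃ b ∈ 𝒜 N, b ∉ x.asHomogeneousIdeal

variable (𝒜) in
theorem exists_covers [IsNoetherianRing A] : ∃ N, Covers 𝒜 N ∧ CompactSpace (Proj 𝒜) := by
  haveI : Algebra.FiniteType (𝒜 0) A := ((GradedAlg.isNoetherianRing_iff 𝒜).mp inferInstance).2
  obtain ⟨r, e, d, hd, he, hadj⟩ := GradedAlg.exists_homogeneous_generators 𝒜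
  have hspan : (HomogeneousIdeal.irrelevant 𝒜).toIdeal = Ideal.span (Set.range e) :=
    GradedAlg.irrelevant_eq_span_of_adjoin_eq_top 𝒜 _ (by rintro _ ⟨i, rfl⟩; exact ⟨d i, hd i, he i⟩) hadj
  have hcov : ∀ x : Proj 𝒜, ∃ i, e i ∉ x.asHomogeneousIdeal := fun x => by
    obtain ⟨_, ⟨i, rfl⟩, hi⟩ := exists_notMem_of_span hspan.le x
    exact ⟨i, hi⟩
  refine ⟨∏ i, d i, ⟨Finset.prod_pos fun i _ => hd i, fun x => ?_⟩, compactSpace_of_finite e d hd he hcov⟩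
  obtain ⟨i, hi⟩ := hcov x
  obtain ⟨c, hc⟩ : d i ∣ ∏ j, d j := Finset.dvd_prod_of_mem d (Finset.mem_univ i)
  refine ⟨e i ^ c, ?_, fun h => hi (x.isPrime.mem_of_pow_mem c h)⟩
  rw [hc, mul_comm]
  simpa [smul_eq_mul] using SetLike.pow_mem_graded c (he i)

theorem twist_eq_tilde (n : ℤ) : Twist.twist 𝒜 n = _root_.GrTilde.tilde 𝒜 𝒜 n := rfl

variable {N : ℕ} (hN : Covers 𝒜 N)
include hN

theorem fracs (j : ℤ) (x : Proj 𝒜) : ∃ (p q : ℕ) (P Q : A), P ∈ 𝒜 p ∧ Q ∈ 𝒜 q ∧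
    (p : ℤ) = q + j * N ∧ P ∉ x.asHomogeneousIdeal ∧ Q ∉ x.asHomogeneousIdeal := by
  obtain ⟨b, hb, hx⟩ := hN.2 x
  obtain ⟨p, q, P, Q, hP, hQ, hd, ninP, ninQ⟩ := exists_fracT hb j
  exact ⟨p, q, P, Q, hP, hQ, hd, ninP ⟨x, hx⟩, ninQ ⟨x, hx⟩⟩

theorem nonempty_tensor {M : Type u} [AddCommGroup M] [Module R M] [Module A M] {ℳ : ℕ → Submodule R M}
    [SetLike.GradedSMul 𝒜 ℳ] {n l : ℤ} (j : ℤ) (h : n + j * N = l) :
    Nonempty (CohB1.tensorMod (_root_.GrTilde.tilde 𝒜 ℳ n) (Twist.twist 𝒜 (j * N)) ≅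
      _root_.GrTilde.tilde 𝒜 ℳ l) :=
  nonempty_tensor_iso_of_fracs h (fracs hN j)

theorem nonempty_twist_tensor {n l : ℤ} (j : ℤ) (h : n + j * N = l) :
    Nonempty (CohB1.tensorMod (Twist.twist 𝒜 n) (Twist.twist 𝒜 (j * N)) ≅ Twist.twist 𝒜 l) := by
  rw [twist_eq_tilde n, twist_eq_tilde l]
  exact nonempty_tensor hN j h

theorem nonempty_tensorPow (n : ℕ) :
    Nonempty (Twist.twist 𝒜 ((n : ℤ) * N) ≅ CohB1.tensorPow (Twist.twist 𝒜 (N : ℤ)) n) := by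
  induction n with
  | zero =>
    obtain ⟨e⟩ := nonempty_structureModule_iso_twist_zero 𝒜
    exact ⟨eqToIso (by simp) ≪≫ e.symm⟩
  | succ n ih =>
    obtain ⟨d⟩ := ih
    obtain ⟨t⟩ := nonempty_twist_tensor hN (n := (n : ℤ) * N) 1 rfl
    exact ⟨eqToIso (by push_cast; ring_nf) ≪≫ t.symm ≪≫
      Ample.LineData.tensorModMapIso d (eqToIso (by rw [one_mul]))⟩

theorem exists_cocycle [CompactSpace (Proj 𝒜)] : ∃ c : Ample.Cocycle (Proj 𝒜), c.IsAmp ∧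
    ∀ n : ℕ, Nonempty (c.twist n ≅ Twist.twist 𝒜 ((n : ℤ) * N)) := by
  obtain ⟨c, ⟨e⟩⟩ := Ample.exists_cocycle (isInvertible_twist_of_cover hN.2)
  refine ⟨c, ((c.isAmple_iff e).mp (isAmple_twist_of_cover hN.1 hN.2)).2, fun n => ?_⟩
  obtain ⟨d⟩ := nonempty_tensorPow hN n
  obtain ⟨t⟩ := c.nonempty_tensorPow_iso e n
  exact ⟨(d ≪≫ t).symm⟩

/-- Undoing a twist. -/
theorem nonempty_untwist (F : (Proj 𝒜).Modules) (j : ℤ) :
    Nonempty (CohB1.tensorMod (CohB1.tensorMod F (Twist.twist 𝒜 (j * N))) (Twist.twist 𝒜 (-j * N)) ≅ F) := by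
  obtain ⟨t⟩ := nonempty_twist_tensor hN (n := j * (N : ℤ)) (l := (0 : ℤ)) (-j) (by ring)
  obtain ⟨e⟩ := nonempty_structureModule_iso_twist_zero 𝒜
  exact ⟨untwistIso F (t ≪≫ e.symm)⟩

/-- A coherent module is a quotient of finitely many copies of a negative twist. -/
theorem exists_epi_twist [CompactSpace (Proj 𝒜)] (F : (Proj 𝒜).Modules) [F.IsQuasicoherent] (hFT : CohB1.IsFT F) :
    ∃ (n k : ℕ) (p : (∐ fun _ : Fin k => Twist.twist 𝒜 (-(n : ℤ) * N)) ⟶ F), Epi p := by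
  obtain ⟨c, hc, htw⟩ := exists_cocycle hN
  have hM : ∀ p : Proj 𝒜, ∃ O : (Proj 𝒜).Opens, p ∈ O ∧ ∀ W : (Proj 𝒜).Opens, IsAffineOpen W → W ≤ O →
      Module.Finite Γ(Proj 𝒜, W) Γ(F, W) :=
    fun p => ⟨⊤, trivial, fun W hW _ => QCoh.moduleFinite_of_isFiniteType F hFT hW⟩
  obtain ⟨n, h⟩ := c.eventually_spanned F hc hM
  haveI := c.isQuasicoherent_modTwist F n
  obtain ⟨k, t, ht⟩ := Ample.exists_finite_spanned (c.modTwist F n) (c.finite_modTwist F n hM)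
    (fun σ : c.msect F n ⊤ => (σ : Γ(c.modTwist F n, ⊤))) (h n le_rfl)
  obtain ⟨p, hp⟩ := Ample.exists_epi_free (F := c.modTwist F n) _ ht
  obtain ⟨e⟩ := c.nonempty_tensor_modTwist F n
  obtain ⟨tw⟩ := htw n
  obtain ⟨t⟩ := nonempty_twist_tensor hN (n := (n : ℤ) * N) (l := (0 : ℤ)) (-(n : ℤ)) (by ring)
  obtain ⟨u⟩ := nonempty_structureModule_iso_twist_zero 𝒜
  exact ⟨n, k, exists_epi_inverse (M := F) p (e.symm ≪≫ Ample.LineData.tensorModMapIso (Iso.refl F) tw) (t ≪≫ u.symm)⟩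

end GrothLib.GrNoeth9
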