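import Groth.Agent.Lib.GrNoeth9.Vanish
import Groth.Agent.Lib.GrAlpha9.Main
import Groth.Agent.Lib.RelTilde8.Comap
import Groth.Agent.Lib.VA.Vals
import Groth.Agent.Lib.ProjCoh.Generic
import Groth.Prelude.Def_ega3
import Groth.Prelude.Def_GrMod2

/-!
# Euler characteristic of `M(n)~` is the length of `M_n` in large degrees
-/

universe u

set_option autoImplicit false
set_option backward.isDefEq.respectTransparency false

open AlgebraicGeometry CategoryTheory TopologicalSpace Opposite HomogeneousLocalization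
open GrothLib.InvExt (mres)
open GrothLib.Ample.ProjTwist (ev)

noncomputable section

namespace GrothLib.GrNoeth9

open GrothLib.GrTilde

variable {A S : Type u} [CommRing A] [CommRing S] [Algebra A S] (𝒜 : ℕ → Submodule A S) [GradedAlgebra 𝒜]

theorem ev_constSec (a : 𝒜 0) (y : (⊤ : (Proj 𝒜).Opens)) :
    ev y (VA.constSec 𝒜 a) = algebraMap S (Twist.Loc 𝒜 y.1) (a : S) := by
  obtain ⟨d, f, hd, hf, hy⟩ := RelTilde8.exists_pos_notMem (𝒜 := 𝒜) y.1
  have h := congrArg (ev (⟨y.1, hy⟩ : Proj.basicOpen 𝒜 f)) (VA.constSec_res 𝒜 hf hd a)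
  refine (Ample.ProjTwist.ev_res (le_top : Proj.basicOpen 𝒜 f ≤ ⊤) _ _).symm.trans (h.trans ?_)
  refine (ProjectiveSpectrum.Proj.awayToSection_apply _ _ _ _).trans ?_
  rw [show (fromZeroRingHom 𝒜 (Submonoid.powers f) a).val = Localization.mk (a : S) 1 from rfl,
    Localization.mk_one_eq_algebraMap, IsLocalization.map_eq]
  rfl

theorem toGlobal_smul_alpha {M : Type u} [AddCommGroup M] [Module A M] [Module S M] [IsScalarTower A S M]
    (ℳ : ℕ → Submodule A M) [SetLike.GradedSMul 𝒜 ℳ] {n : ℕ} (c : A) (m : ℳ n) :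
    _root_.GrMod.alpha 𝒜 ℳ n (c • m) =
      (show Γ(Proj 𝒜, ⊤) from Coh.toGlobal (Proj 𝒜 ↘ Spec (CommRingCat.of A)) c) • _root_.GrMod.alpha 𝒜 ℳ n m := by
  have hc : (show Γ(Proj 𝒜, ⊤) from Coh.toGlobal (Proj 𝒜 ↘ Spec (CommRingCat.of A)) c) =
      VA.constSec 𝒜 (algebraMap A (𝒜 0) c) := by
    show (Proj.toSpecZero 𝒜 ≫ Spec.map (CommRingCat.ofHom (algebraMap A (𝒜 0)))).appTop
      ((Scheme.ΓSpecIso (CommRingCat.of A)).inv c) = (Proj.toSpecZero 𝒜).appTop _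
    rw [Scheme.Hom.comp_appTop, CommRingCat.comp_apply]
    refine congrArg (fun t => (Proj.toSpecZero 𝒜).appTop t) ?_
    rw [← CommRingCat.comp_apply, ← Scheme.ΓSpecIso_inv_naturality]
    rfl
  refine RelTilde8.evM_ext fun y => ?_
  rw [RelTilde8.evM_smul, hc]
  show LocalizedModule.mk ((c • m : ℳ n) : M) 1 = ev y (VA.constSec 𝒜 (algebraMap A (𝒜 0) c)) • LocalizedModule.mk (m : M) 1
  rw [ev_constSec, ← Localization.mk_one_eq_algebraMap, LocalizedModule.mk_smul_mk, one_mul]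
  congr 1
  exact (IsScalarTower.algebraMap_smul S c (m : M)).symm

theorem euler_eventually [IsNoetherianRing S] (h1 : ∀ x : Proj 𝒜, ∃ f : S, f ∈ 𝒜 1 ∧ f ∉ x.asHomogeneousIdeal)
    {M : Type u} [AddCommGroup M] [Module A M] [Module S M] [IsScalarTower A S M] [Module.Finite S M]
    (ℳ : ℕ → Submodule A M) [DirectSum.Decomposition ℳ] [SetLike.GradedSMul 𝒜 ℳ] (r : ℕ) :
    ∃ N : ℕ, ∀ n : ℕ, N ≤ n →
      ((Finset.range (r + 1)).sum fun j => (-1 : ℤ) ^ j *
          ((Module.length A (Coh.HH (Proj 𝒜) (_root_.GrTilde.tilde 𝒜 ℳ (n : ℤ)) j)).toNat : ℤ)) =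
        ((Module.length A ↥(ℳ n)).toNat : ℤ) := by
  haveI : IsNoetherian S M := isNoetherian_of_isNoetherianRing_of_finite S M
  have hcoh : Coh.IsCoh (_root_.GrTilde.tilde 𝒜 ℳ 0) :=
    ⟨isQuasicoherent_tilde 0, isFT_tilde 𝒜 ℳ (IsNoetherian.noetherian _) ⟨0, IsNoetherian.noetherian _⟩⟩
  choose d hd using fun j : ℕ => exists_vanish hcoh (p := j + 1) (Nat.succ_pos j)
  obtain ⟨N, hN⟩ := GrAlpha9.eventually_bijective 𝒜 ℳ ⟨0, IsNoetherian.noetherian _⟩
  refine ⟨N + (Finset.range r).sup fun j => (d j).toNat, fun n hn => ?_⟩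
  obtain ⟨e⟩ := nonempty_tensor_iso (ℳ := ℳ) h1 (n := 0) (k := (n : ℤ)) (l := (n : ℤ)) (zero_add _)
  have hz : ∀ j ∈ Finset.range r, Subsingleton (Coh.HH (Proj 𝒜) (_root_.GrTilde.tilde 𝒜 ℳ (n : ℤ)) (j + 1)) := by
    intro j hj
    have h2 := Finset.le_sup (f := fun j => (d j).toNat) hj
    haveI := hd j (n : ℤ) ((Int.self_le_toNat _).trans (by exact_mod_cast h2.trans ((Nat.le_add_left _ N).trans hn)))
    exact (Euler.hhEquiv (A := A) e (j + 1)).toEquiv.symm.subsingleton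
  rw [Finset.sum_range_succ', Finset.sum_eq_zero (fun j hj => by
    haveI := hz j hj
    rw [Module.length_eq_zero]
    simp), zero_add, pow_zero, one_mul]
  let α : ℳ n ≃+ Γ(_root_.GrTilde.tilde 𝒜 ℳ (n : ℤ), ⊤) :=
    AddEquiv.ofBijective (_root_.GrMod.alpha 𝒜 ℳ n) (hN n ((Nat.le_add_right _ _).trans hn))
  let f : ℳ n ≃+ Coh.HH (Proj 𝒜) (_root_.GrTilde.tilde 𝒜 ℳ (n : ℤ)) 0 := α.trans (ProjCoh.H0top _).symm
  have hlin : ∀ (c : A) (m : ℳ n), f (c • m) = c • f m := fun c m => by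
    refine (ProjCoh.H0top _).injective ?_
    rw [ProjCoh.H0top_smul]
    simp only [f, AddEquiv.trans_apply, AddEquiv.apply_symm_apply]
    exact toGlobal_smul_alpha 𝒜 ℳ c m
  rw [(AddEquiv.toLinearEquiv f hlin).length_eq]

end GrothLib.GrNoeth9
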