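import Groth.Agent.Lib.GrTilde.Graded

/-!
# Decompositions from projections; free modules with shifted grading
-/

universe u

set_option autoImplicit false

open DirectSum

noncomputable section

namespace GrothLib.GrNoeth9

/-- A decomposition from projections and a spanning property. -/
def decompositionOfProj {R M : Type*} [CommRing R] [AddCommGroup M] [Module R M] (ℳ : ℕ → Submodule R M)
    (π : ℕ → M →+ M) (h1 : ∀ i, ∀ v ∈ ℳ i, π i v = v) (h2 : ∀ i j, ∀ v ∈ ℳ i, j ≠ i → π j v = 0)
    (htop : ⨆ i, ℳ i = ⊤) : DirectSum.Decomposition ℳ :=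
  DirectSum.IsInternal.chooseDecomposition ℳ (by
    classical
    have key : ∀ (x : ⨁ i, ℳ i) (i : ℕ), π i (DirectSum.coeAddMonoidHom ℳ x) = (x i : M) := by
      intro x i
      induction x using DirectSum.induction_on with
      | zero => simp
      | of j v =>
        rw [DirectSum.coeAddMonoidHom_of]
        rcases eq_or_ne j i with rfl | hne
        · rw [DirectSum.of_eq_same, h1 _ _ v.2]
        · rw [DirectSum.of_eq_of_ne _ _ _ (Ne.symm hne), h2 j i _ v.2 (Ne.symm hne), ZeroMemClass.coe_zero]
      | add x y hx hy => rw [map_add, map_add, hx, hy, DirectSum.add_apply, Submodule.coe_add]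
    refine ⟨fun x y h => DFunLike.ext _ _ fun i => Subtype.ext ?_, fun v => ?_⟩
    · rw [← key x i, ← key y i, h]
    · have hv : v ∈ LinearMap.range (DirectSum.coeLinearMap ℳ) := by
        rw [DirectSum.range_coeLinearMap, htop]; exact Submodule.mem_top
      obtain ⟨x, hx⟩ := hv
      exact ⟨x, hx⟩)

variable {R A : Type u} [CommRing R] [CommRing A] [Algebra R A] (𝒜 : ℕ → Submodule R A) [GradedAlgebra 𝒜]

/-- The free module with generators in degree `s`. -/
def freeGr (s k : ℕ) (i : ℕ) : Submodule R (Fin k → A) :=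
  Submodule.pi Set.univ fun _ : Fin k => if s ≤ i then 𝒜 (i - s) else ⊥

variable {𝒜}

theorem mem_freeGr {s k i : ℕ} {v : Fin k → A} :
    v ∈ freeGr 𝒜 s k i ↔ (s ≤ i ∧ ∀ j, v j ∈ 𝒜 (i - s)) ∨ v = 0 := by
  simp only [freeGr, Submodule.mem_pi, Set.mem_univ, true_implies]
  by_cases h : s ≤ i
  · simp only [h, if_true, true_and]
    exact ⟨Or.inl, fun h' => h'.elim id fun h0 j => by rw [h0]; exact zero_mem _⟩
  · simp only [h, if_false, false_and, false_or, Submodule.mem_bot]
    exact ⟨funext, fun h0 j => by rw [h0]; rfl⟩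

instance gradedSMul_freeGr (s k : ℕ) : SetLike.GradedSMul 𝒜 (freeGr 𝒜 s k) :=
  ⟨fun {i j a v} ha hv => by
    rcases mem_freeGr.1 hv with ⟨hs, hv⟩ | hv
    · refine mem_freeGr.2 (Or.inl ⟨le_trans hs (Nat.le_add_left j i), fun l => ?_⟩)
      show a • v l ∈ 𝒜 (i + j - s)
      rw [show i + j - s = i + (j - s) by omega, smul_eq_mul]
      exact SetLike.mul_mem_graded ha (hv l)
    · exact mem_freeGr.2 (Or.inr (by rw [hv]; exact smul_zero a))⟩

variable (𝒜) in
instance decompositionFreeGr (s k : ℕ) : DirectSum.Decomposition (freeGr 𝒜 s k) :=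
  decompositionOfProj _
    (fun i => if s ≤ i then AddMonoidHom.compLeft (GradedRing.proj 𝒜 (i - s)) (Fin k) else 0)
    (fun i v hv => by
      rcases mem_freeGr.1 hv with ⟨hs, hv⟩ | hv
      · rw [if_pos hs]
        exact funext fun j => DirectSum.decompose_of_mem_same 𝒜 (hv j)
      · rw [hv, map_zero])
    (fun i j v hv hne => by
      rcases mem_freeGr.1 hv with ⟨hs, hv⟩ | hv
      · split
        next hj => exact funext fun l => DirectSum.decompose_of_mem_ne 𝒜 (hv l) (by omega)
        next hj => rfl
      · rw [hv, map_zero])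
    (by
      classical
      refine eq_top_iff.2 fun v _ => ?_
      rw [← Finset.univ_sum_single v]
      refine sum_mem fun j _ => ?_
      rw [← DirectSum.sum_support_decompose 𝒜 (v j)]
      generalize (DirectSum.decompose 𝒜 (v j)).support = T
      induction T using Finset.induction_on with
      | empty => simp
      | insert l T hl ih =>
        rw [Finset.sum_insert hl, Pi.single_add]
        refine add_mem (Submodule.mem_iSup_of_mem (l + s) (mem_freeGr.2 (Or.inl ⟨Nat.le_add_left s l, fun j' => ?_⟩))) ih
        rw [Nat.add_sub_cancel]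
        rcases eq_or_ne j' j with rfl | hne
        · rw [Pi.single_eq_same]; exact SetLike.coe_mem _
        · rw [Pi.single_eq_of_ne hne]; exact zero_mem _)

end GrothLib.GrNoeth9
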