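import Groth.Agent.Lib.GrNoeth9.Decomp
import Groth.Agent.Lib.RegTilde27.Basic

/-!
# Quotient of a graded module by a homogeneous submodule
-/

universe u

set_option autoImplicit false
set_option backward.isDefEq.respectTransparency false

open AlgebraicGeometry CategoryTheory DirectSum

noncomputable section

namespace GrothLib.GrNoeth9

open GrothLib.GrTilde RegTilde27

variable {R A : Type u} [CommRing R] [CommRing A] [Algebra R A] {𝒜 : ℕ → Submodule R A} [GradedAlgebra 𝒜]
variable {M : Type u} [AddCommGroup M] [Module R M] [Module A M] [IsScalarTower R A M]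
  (ℳ : ℕ → Submodule R M) [DirectSum.Decomposition ℳ]

/-- A component, as an additive map. -/
def comp (i : ℕ) : M →+ M :=
  AddMonoidHom.mk' (fun v => (DirectSum.decompose ℳ v i : M)) fun v w => by
    rw [DirectSum.decompose_add, DirectSum.add_apply, Submodule.coe_add]

theorem comp_apply (i : ℕ) (v : M) : comp ℳ i v = (DirectSum.decompose ℳ v i : M) := rfl

/-- A submodule closed under taking components. -/
def IsHom (K : Submodule A M) : Prop := ∀ i, ∀ v ∈ K, comp ℳ i v ∈ K

variable (K : Submodule A M)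

/-- The grading of a submodule. -/
def subGr (i : ℕ) : Submodule R K := (ℳ i).comap (K.subtype.restrictScalars R)

/-- The grading of a quotient. -/
def quotGr (i : ℕ) : Submodule R (M ⧸ K) := (ℳ i).map (K.mkQ.restrictScalars R)

variable [SetLike.GradedSMul 𝒜 ℳ]

instance gradedSMul_subGr : SetLike.GradedSMul 𝒜 (subGr ℳ K) :=
  ⟨fun {i j a v} ha hv => SetLike.GradedSMul.smul_mem (B := ℳ) ha hv⟩

instance gradedSMul_quotGr : SetLike.GradedSMul 𝒜 (quotGr ℳ K) :=
  ⟨fun {i j a v} ha hv => by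
    obtain ⟨w, hw, rfl⟩ := hv
    exact ⟨a • w, SetLike.GradedSMul.smul_mem ha hw, map_smul K.mkQ a w⟩⟩

omit [SetLike.GradedSMul 𝒜 ℳ] in
/-- The decomposition of the quotient. -/
abbrev decompositionQuot (hK : IsHom ℳ K) : DirectSum.Decomposition (quotGr ℳ K) :=
  decompositionOfProj _
    (fun i => QuotientAddGroup.map K.toAddSubgroup K.toAddSubgroup (comp ℳ i) (fun v hv => hK i v hv))
    (fun i v hv => by
      obtain ⟨w, hw, rfl⟩ := hv
      show Submodule.Quotient.mk (p := K) (comp ℳ i w) = Submodule.Quotient.mk w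
      rw [comp_apply, DirectSum.decompose_of_mem_same ℳ hw])
    (fun i j v hv hne => by
      obtain ⟨w, hw, rfl⟩ := hv
      show Submodule.Quotient.mk (p := K) (comp ℳ j w) = 0
      rw [comp_apply, DirectSum.decompose_of_mem_ne ℳ hw (Ne.symm hne), Submodule.Quotient.mk_zero])
    (by
      unfold quotGr
      rw [← Submodule.map_iSup, (DirectSum.Decomposition.isInternal ℳ).submodule_iSup_eq_top, Submodule.map_top,
        LinearMap.range_eq_top]
      exact K.mkQ_surjective)

omit [DirectSum.Decomposition ℳ] [SetLike.GradedSMul 𝒜 ℳ] in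
theorem isShift_subtype : IsShift (subGr ℳ K) ℳ K.subtype 0 := fun i m hm => Or.inr ⟨i, by simp, hm⟩

omit [DirectSum.Decomposition ℳ] [SetLike.GradedSMul 𝒜 ℳ] in
theorem isShift_mkQ : IsShift ℳ (quotGr ℳ K) K.mkQ 0 := fun i m hm => Or.inr ⟨i, by simp, m, hm, rfl⟩

variable (𝒜)

omit [DirectSum.Decomposition ℳ] [SetLike.GradedSMul 𝒜 ℳ] in
theorem lifts_subtype : Lifts 𝒜 (subGr ℳ K) ℳ K.subtype 0 := fun y i m hm hr => by
  obtain ⟨v, rfl⟩ := hr
  exact ⟨0, 1, i, v, SetLike.GradedOne.one_mem, fun h => y.isPrime.ne_top ((Ideal.eq_top_iff_one _).mpr h), hm,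
    by simp, by rw [one_smul]⟩

omit [DirectSum.Decomposition ℳ] [SetLike.GradedSMul 𝒜 ℳ] in
theorem lifts_mkQ : Lifts 𝒜 ℳ (quotGr ℳ K) K.mkQ 0 := fun y i m hm _ => by
  obtain ⟨v, hv, rfl⟩ := hm
  exact ⟨0, 1, i, v, SetLike.GradedOne.one_mem, fun h => y.isPrime.ne_top ((Ideal.eq_top_iff_one _).mpr h), hv,
    by simp, by rw [one_smul]; rfl⟩

omit [IsScalarTower R A M] in
/-- Annihilators are tested on components. -/
theorem compAnn : CompAnn 𝒜 ℳ := fun i m hm a h l => by
  rw [GradedRing.proj_apply, ← decompose_smul_of_mem (ℳ := ℳ) hm a l, h, DirectSum.decompose_zero,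
    DirectSum.zero_apply, Submodule.coe_zero]

theorem shortExact_quot (hK : IsHom ℳ K) (n : ℤ) :
    (ShortComplex.mk (RegTilde27.map (𝒜 := 𝒜) (isShift_subtype ℳ K) (add_zero n))
      (RegTilde27.map (isShift_mkQ ℳ K) (add_zero n))
      (map_comp_map_eq_zero (isShift_subtype ℳ K) (isShift_mkQ ℳ K)
        fun m => (Submodule.Quotient.mk_eq_zero K).2 m.2)).ShortExact :=
  letI := decompositionQuot ℳ K hK
  RegTilde27.shortExact _ _ (fun m => (Submodule.Quotient.mk_eq_zero K).2 m.2) Subtype.val_injective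
    (fun m hm => ⟨⟨m, (Submodule.Quotient.mk_eq_zero K).1 hm⟩, rfl⟩) K.mkQ_surjective
    (lifts_subtype 𝒜 ℳ K) (lifts_mkQ 𝒜 ℳ K) (compAnn 𝒜 (quotGr ℳ K))

end GrothLib.GrNoeth9
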