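import Groth.Agent.Lib.GrNoeth9.Basic
import Groth.Agent.Lib.GrNoeth9.Decomp
import Groth.Agent.Lib.RegTilde27.Basic
import Groth.Agent.Lib.QCoh.SupportExact

/-!
# Free modules with shifted grading and negative twists
-/

universe u

set_option autoImplicit false
set_option backward.isDefEq.respectTransparency false

open AlgebraicGeometry CategoryTheory CategoryTheory.Limits TopologicalSpace Opposite

noncomputable section

namespace GrothLib.GrNoeth9

open GrothLib.GrTilde RegTilde27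

variable {R A : Type u} [CommRing R] [CommRing A] [Algebra R A] (𝒜 : ℕ → Submodule R A) [GradedAlgebra 𝒜]

theorem isShift_proj (s k : ℕ) (j : Fin k) :
    IsShift (freeGr 𝒜 s k) 𝒜 (LinearMap.proj (R := A) (φ := fun _ : Fin k => A) j) (-(s : ℤ)) := fun i v hv => by
  rcases mem_freeGr.1 hv with ⟨hs, hv⟩ | hv
  · exact Or.inr ⟨i - s, by omega, hv j⟩
  · exact Or.inl (by rw [hv]; rfl)

theorem isShift_single (s k : ℕ) (j : Fin k) :
    IsShift (freeGr 𝒜 s 1) (freeGr 𝒜 s k)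
      ((LinearMap.single A (fun _ : Fin k => A) j).comp (LinearMap.proj (R := A) (φ := fun _ : Fin 1 => A) 0)) 0 :=
  fun i v hv => by
    rcases mem_freeGr.1 hv with ⟨hs, hv⟩ | hv
    · refine Or.inr ⟨i, by simp, mem_freeGr.2 (Or.inl ⟨hs, fun l => ?_⟩)⟩
      show (Pi.single j (v 0) : Fin k → A) l ∈ 𝒜 (i - s)
      rcases eq_or_ne l j with rfl | hne
      · rw [Pi.single_eq_same]; exact hv 0
      · rw [Pi.single_eq_of_ne hne]; exact zero_mem _
    · exact Or.inl (by rw [hv, map_zero])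

theorem one_notMem' (y : ProjectiveSpectrum 𝒜) : (1 : A) ∉ y.asHomogeneousIdeal :=
  fun h => y.isPrime.ne_top ((Ideal.eq_top_iff_one _).mpr h)

theorem isIso_proj_zero (s : ℕ) :
    IsIso (RegTilde27.map (𝒜 := 𝒜) (isShift_proj 𝒜 s 1 0) (zero_add (-(s : ℤ)))) := by
  refine RegTilde27.isIso_map _ _ (fun v w h => funext fun l => ?_) (fun y i m hm _ => ?_)
    fun y p a _ => ⟨0, 1, SetLike.GradedOne.one_mem, one_notMem' 𝒜 y, fun _ => a, by simp⟩
  · obtain rfl : l = 0 := Subsingleton.elim _ _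
    exact h
  · refine ⟨0, 1, i + s, fun _ => m, SetLike.GradedOne.one_mem, one_notMem' 𝒜 y,
      mem_freeGr.2 (Or.inl ⟨Nat.le_add_left s i, fun _ => by rw [Nat.add_sub_cancel]; exact hm⟩),
      by push_cast; ring, ?_⟩
    rw [one_smul]
    rfl

/-- `O(-s)` as the module of a shifted free module. -/
def negTwistIso (s : ℕ) : _root_.GrTilde.tilde 𝒜 (freeGr 𝒜 s 1) 0 ≅ _root_.GrTilde.tilde 𝒜 𝒜 (-(s : ℤ)) :=
  @asIso _ _ _ _ _ (isIso_proj_zero 𝒜 s)

theorem isCoh_twist_neg [IsNoetherianRing A] (s : ℕ) : Coh.IsCoh (Twist.twist 𝒜 (-(s : ℤ))) := by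
  rw [twist_eq_tilde]
  exact QCoh.isCoh_of_iso (negTwistIso 𝒜 s) ⟨isQuasicoherent_tilde 0,
    isFT_tilde 𝒜 (freeGr 𝒜 s 1) (IsNoetherian.noetherian _) ⟨0, IsNoetherian.noetherian _⟩⟩

end GrothLib.GrNoeth9
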