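import Groth.Agent.Lib.GrNoeth9.GrQuot
import Groth.Agent.Lib.GrNoeth9.Shift
import Groth.Agent.Lib.Ample.Cocycle
import Groth.Agent.Lib.GrTilde.QCoh

/-!
# A quotient of `M~` is `N~`
-/

universe u

set_option autoImplicit false
set_option backward.isDefEq.respectTransparency false

open AlgebraicGeometry CategoryTheory CategoryTheory.Limits TopologicalSpace Opposite DirectSum
open GrothLib.InvExt (mres)
open GrothLib.Ample (res app_mres app_smul)
open GrothLib.Ample.ProjTwist (ev fracO)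

noncomputable section

namespace GrothLib.GrNoeth9

open GrothLib.GrTilde RegTilde27

variable {R A : Type u} [CommRing R] [CommRing A] [Algebra R A] {𝒜 : ℕ → Submodule R A} [GradedAlgebra 𝒜]
variable {M : Type u} [AddCommGroup M] [Module R M] [Module A M] [IsScalarTower R A M]
  {ℳ : ℕ → Submodule R M} [DirectSum.Decomposition ℳ] [SetLike.GradedSMul 𝒜 ℳ]
variable {F : (Proj 𝒜).Modules} (T : _root_.GrTilde.tilde 𝒜 ℳ 0 ⟶ F)

omit [IsScalarTower R A M] [DirectSum.Decomposition ℳ] in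
theorem fracM_congr {V : (Proj 𝒜).Opens} {p q : ℕ} {a a' : M} (h : a = a') {s : A} (ha : a ∈ ℳ p) (ha' : a' ∈ ℳ p)
    (hs : s ∈ 𝒜 q) (nin : ∀ y : V, s ∉ y.1.asHomogeneousIdeal) (hd : (p : ℤ) = q + 0 ∨ a = 0)
    (hd' : (p : ℤ) = q + 0 ∨ a' = 0) :
    fracM (n := 0) (V := V) a s ha hs nin hd = fracM (n := 0) (V := V) a' s ha' hs nin hd' := by
  subst h; rfl

/-- Homogeneous elements all of whose multiples give fractions in the kernel. -/
def kerPiece (i : ℕ) : Submodule R M where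
  carrier := {v | v ∈ ℳ i ∧ ∀ (l : ℕ) (a : A), a ∈ 𝒜 l → ∀ (w : M) (hw : w ∈ ℳ (l + i)), w = a • v →
    ∀ (V : (Proj 𝒜).Opens) (t : A) (ht : t ∈ 𝒜 (l + i)) (nin : ∀ y : V, t ∉ y.1.asHomogeneousIdeal),
      T.app V (fracM (n := 0) w t hw ht nin (Or.inl (by simp))) = 0}
  zero_mem' := ⟨zero_mem _, fun l a ha w hw he V t ht nin => by
    have : fracM (n := 0) (V := V) w t hw ht nin (Or.inl (by simp)) = 0 := evM_ext fun y => by
      rw [evM_fracM, evM_zero, he, smul_zero, LocalizedModule.zero_mk]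
    rw [this, map_zero]⟩
  add_mem' := fun {v v'} hv hv' => ⟨add_mem hv.1 hv'.1, fun l a ha w hw he V t ht nin => by
    have hm : a • v ∈ ℳ (l + i) := SetLike.GradedSMul.smul_mem ha hv.1
    have hm' : a • v' ∈ ℳ (l + i) := SetLike.GradedSMul.smul_mem ha hv'.1
    have : fracM (n := 0) (V := V) w t hw ht nin (Or.inl (by simp)) =
        fracM (n := 0) (V := V) (a • v) t hm ht nin (Or.inl (by simp)) +
          fracM (n := 0) (V := V) (a • v') t hm' ht nin (Or.inl (by simp)) := evM_ext fun y => by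
      rw [evM_add, evM_fracM, evM_fracM, evM_fracM, LocalizedModule.mk_add_mk, LocalizedModule.mk_eq]
      refine ⟨1, ?_⟩
      simp only [one_smul, Submonoid.smul_def, Submonoid.coe_mul, he, smul_add, mul_smul]
    rw [this, map_add, hv.2 l a ha _ hm rfl V t ht nin, hv'.2 l a ha _ hm' rfl V t ht nin, add_zero]⟩
  smul_mem' := fun r v hv => ⟨Submodule.smul_mem _ r hv.1, fun l a ha w hw he V t ht nin => by
    refine hv.2 l (r • a) (Submodule.smul_mem _ r ha) w hw ?_ V t ht nin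
    rw [he, smul_comm, smul_assoc]⟩

omit [DirectSum.Decomposition ℳ] in
theorem kerPiece_smul {i l : ℕ} {a : A} (ha : a ∈ 𝒜 l) {v : M} (hv : v ∈ kerPiece T i) :
    a • v ∈ kerPiece T (l + i) :=
  ⟨SetLike.GradedSMul.smul_mem ha hv.1, fun l' b hb w hw he V t ht nin => by
    have hw' : w ∈ ℳ ((l' + l) + i) := by rw [Nat.add_assoc]; exact hw
    have ht' : t ∈ 𝒜 ((l' + l) + i) := by rw [Nat.add_assoc]; exact ht
    have h := hv.2 (l' + l) (b * a) (SetLike.mul_mem_graded hb ha) w hw' (by rw [he, mul_smul]) V t ht' nin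
    convert h using 2
    exact evM_ext fun y => rfl⟩

/-- The submodule of the kernel. -/
def kerSub : Submodule A M := Submodule.span A (⋃ i, (kerPiece T i : Set M))

theorem comp_mem_kerPiece {v : M} (hv : v ∈ kerSub T) (i : ℕ) : comp ℳ i v ∈ kerPiece T i := by
  suffices H : ∀ b : A, comp ℳ i (b • v) ∈ kerPiece T i by simpa using H 1
  induction hv using Submodule.span_induction with
  | mem z hz =>
    obtain ⟨e, hz⟩ := Set.mem_iUnion.1 hz
    intro b
    by_cases he : e ≤ i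
    · have h1 := decompose_smul_of_mem (𝒜 := 𝒜) (ℳ := ℳ) hz.1 b (i - e)
      rw [Nat.sub_add_cancel he] at h1
      rw [comp_apply, h1]
      have h2 := kerPiece_smul T (SetLike.coe_mem (DirectSum.decompose 𝒜 b (i - e))) hz
      rwa [Nat.sub_add_cancel he] at h2
    · rw [comp_apply, decompose_smul_of_lt 𝒜 ℳ hz.1 b (not_le.1 he)]
      exact zero_mem _
  | zero => intro b; rw [smul_zero, map_zero]; exact zero_mem _
  | add x y _ _ hx hy => intro b; rw [smul_add, map_add]; exact add_mem (hx b) (hy b)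
  | smul c x _ hx => intro b; rw [← mul_smul]; exact hx _

theorem isHom_kerSub : IsHom ℳ (kerSub T) := fun i v hv =>
  Submodule.subset_span (Set.mem_iUnion.2 ⟨i, comp_mem_kerPiece T hv i⟩)

theorem mem_kerPiece {v : M} (hv : v ∈ kerSub T) {i : ℕ} (hi : v ∈ ℳ i) : v ∈ kerPiece T i := by
  have := comp_mem_kerPiece T hv i
  rwa [comp_apply, DirectSum.decompose_of_mem_same ℳ hi] at this

theorem map_subtype_comp :
    RegTilde27.map (𝒜 := 𝒜) (isShift_subtype ℳ (kerSub T)) (add_zero 0) ≫ T = 0 := by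
  refine Scheme.Modules.hom_ext _ _ fun V => ?_
  ext (σ : Γ(_root_.GrTilde.tilde 𝒜 (subGr ℳ (kerSub T)) 0, V))
  show T.app V ((RegTilde27.map (𝒜 := 𝒜) (isShift_subtype ℳ (kerSub T)) (add_zero 0)).app V σ) = 0
  choose W hyW iW p q av st nin hd hval using
    (show _root_.GrTilde.sect 𝒜 (subGr ℳ (kerSub T)) 0 (op V) from σ).2
  refine Ample.meq_of_cover F W (fun y => leOfHom (iW y))
    (fun y hy => Opens.mem_iSup.mpr ⟨⟨y, hy⟩, hyW ⟨y, hy⟩⟩) fun y => ?_
  rw [← app_mres T, RegTilde27.map_app, show mres F (leOfHom (iW y)) 0 = 0 from map_zero _]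
  rcases hd y with hd' | hd'
  · obtain hpq : p y = q y := by simpa using hd'
    have hav : ((av y : kerSub T) : M) ∈ kerPiece T (p y) := mem_kerPiece T (av y).1.2 (av y).2
    have ht : (st y : A) ∈ 𝒜 (0 + p y) := by rw [zero_add, hpq]; exact (st y).2
    have hw : ((av y : kerSub T) : M) ∈ ℳ (0 + p y) := by rw [zero_add]; exact (av y).2
    rw [← hav.2 0 1 SetLike.GradedOne.one_mem _ hw (one_smul A _).symm (W y) (st y) ht (nin y)]
    refine congrArg (T.app (W y)) (evM_ext fun z => ?_)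
    rw [evM_mres, evM_mapSect, evM_fracM,
      show evM ⟨z.1, _⟩ σ = LocalizedModule.mk ((av y : subGr ℳ (kerSub T) (p y)) : kerSub T) (⟨(st y : A), nin y z⟩ : z.1.asHomogeneousIdeal.toIdeal.primeCompl) from hval y z,
      locLin_mk]
    rfl
  · rw [show mres (_root_.GrTilde.tilde 𝒜 ℳ 0) (leOfHom (iW y)) (mapSect (isShift_subtype ℳ (kerSub T)) (add_zero 0) σ)
      = 0 from evM_ext fun z => ?_, map_zero]
    rw [evM_mres, evM_mapSect, evM_zero,
      show evM ⟨z.1, _⟩ σ = LocalizedModule.mk ((av y : subGr ℳ (kerSub T) (p y)) : kerSub T) (⟨(st y : A), nin y z⟩ : z.1.asHomogeneousIdeal.toIdeal.primeCompl) from hval y z,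
      hd', LocalizedModule.zero_mk, map_zero]

/-- A fraction in the kernel has a multiple in the kernel submodule. -/
theorem exists_pow_mem [F.IsQuasicoherent] [CompactSpace (Proj 𝒜)] {N : ℕ} (hN : Covers 𝒜 N) {q : ℕ} (hq : 0 < q)
    {a : M} (ha : a ∈ ℳ q) {w : A} (hw : w ∈ 𝒜 q)
    (h : T.app (Proj.basicOpen 𝒜 w)
      (fracM (n := 0) a w ha hw (fun y => y.2) (Or.inl (by simp))) = 0) :
    ∃ e : ℕ, w ^ e • a ∈ kerSub T := by
  classical
  choose g hg hgx using hN.2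
  obtain ⟨S, hS⟩ := isCompact_univ.elim_finite_subcover (fun x : Proj 𝒜 => (Proj.basicOpen 𝒜 (g x) : Set (Proj 𝒜)))
    (fun x => (Proj.basicOpen 𝒜 (g x)).2) (fun x _ => Set.mem_iUnion.2 ⟨x, hgx x⟩)
  obtain ⟨N', hN'⟩ : ∃ N', N = N' + 1 := ⟨N - 1, by have := hN.1; omega⟩
  have hwN : ∀ m, w ^ m ∈ 𝒜 (m * q) := fun m => pow_mem_mul 𝒜 hw m
  let ρ : ∀ x, Γ(_root_.GrTilde.tilde 𝒜 ℳ 0, Proj.basicOpen 𝒜 (g x)) := fun x =>
    fracM (n := 0) (w ^ N' • a) (g x ^ q) (SetLike.GradedSMul.smul_mem (hwN N') ha) (pow_mem_mul 𝒜 (hg x) q)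
      (fun y hy => y.2 (y.1.isPrime.mem_of_pow_mem q hy))
      (Or.inl (by
        simp only [vadd_eq_add, add_zero]
        exact_mod_cast (by rw [hN']; ring : N' * q + q = q * N)))
  let r : ∀ x, Γ(Proj 𝒜, Proj.basicOpen 𝒜 (g x)) := fun x =>
    fracO (V := Proj.basicOpen 𝒜 (g x)) (w ^ N) (g x ^ q) (show w ^ N ∈ 𝒜 (q * N) by rw [mul_comm]; exact hwN N)
      (pow_mem_mul 𝒜 (hg x) q) fun y hy => y.2 (y.1.isPrime.mem_of_pow_mem q hy)
  have hr : ∀ x, (Proj 𝒜).basicOpen (r x) = Proj.basicOpen 𝒜 (g x * w ^ N) := fun x =>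
    le_basicOpen_of_ev (k := q) (r x) (show w ^ N ∈ 𝒜 (q • N) by rw [smul_eq_mul, mul_comm]; exact hwN N) (hg x)
      fun y => Ample.ProjTwist.ev_fracO _ _ _ _ _ y
  have hkill : ∀ x, ∃ m : ℕ, r x ^ m • T.app _ (ρ x) = 0 := fun x => by
    refine (QCoh.smulLift_and_smulSep_of_isAffineOpen
      (Proj.isAffineOpen_basicOpen 𝒜 _ (hg x) hN.1) F (r x)).2 _ ?_
    show mres F ((Proj 𝒜).basicOpen_le (r x)) (T.app _ (ρ x)) = 0
    have hle : (Proj 𝒜).basicOpen (r x) ≤ Proj.basicOpen 𝒜 w := fun y hy => by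
      rw [hr x] at hy
      exact fun hm => (mem_basicOpen_mul.1 hy).2 (y.asHomogeneousIdeal.toIdeal.pow_mem_of_mem hm N hN.1)
    have e : mres (_root_.GrTilde.tilde 𝒜 ℳ 0) ((Proj 𝒜).basicOpen_le (r x)) (ρ x) =
        res ((Proj 𝒜).basicOpen_le (r x)) (r x) •
          mres (_root_.GrTilde.tilde 𝒜 ℳ 0) hle (fracM (n := 0) a w ha hw (fun y => y.2) (Or.inl (by simp))) :=
      evM_ext fun y => by
        rw [evM_mres, evM_fracM, evM_smul, Ample.ProjTwist.ev_res, Ample.ProjTwist.ev_fracO, evM_mres, evM_fracM,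
          LocalizedModule.mk_smul_mk, LocalizedModule.mk_eq]
        refine ⟨1, ?_⟩
        simp only [one_smul, Submonoid.smul_def, Submonoid.coe_mul, ← mul_smul, hN', pow_succ]
        congr 1
        ring
    rw [← app_mres T, e, app_smul, app_mres T, h]
    exact (congrArg _ (map_zero _)).trans (smul_zero _)
  choose m₀ hm₀ using hkill
  let m := S.sup m₀
  refine ⟨N * m + N', Submodule.subset_span (Set.mem_iUnion.2 ⟨(N * m + N') * q + q,
    SetLike.GradedSMul.smul_mem (hwN _) ha, fun l b hb v hv he V t ht nin => ?_⟩)⟩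
  refine Ample.meq_of_cover F (fun x : S => V ⊓ Proj.basicOpen 𝒜 (g x.1)) (fun x => inf_le_left) (fun y hy => ?_)
    fun x => ?_
  · obtain ⟨x, hx, hyx⟩ := Set.mem_iUnion₂.1 (hS (Set.mem_univ y))
    exact Opens.mem_iSup.mpr ⟨⟨x, hx⟩, hy, hyx⟩
  have hdeg : (N * m + N') * q + q = q * (m + 1) * N := by rw [hN']; ring
  let W := V ⊓ Proj.basicOpen 𝒜 (g x.1)
  let c : Γ(Proj 𝒜, W) := fracO (V := W) (b * g x.1 ^ (q * (m + 1))) t
    (show b * g x.1 ^ (q * (m + 1)) ∈ 𝒜 (l + ((N * m + N') * q + q)) from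
      SetLike.mul_mem_graded hb (hdeg ▸ pow_mem_mul 𝒜 (hg x.1) _)) ht fun y => nin ⟨y.1, y.2.1⟩
  have e : mres (_root_.GrTilde.tilde 𝒜 ℳ 0) (inf_le_left : W ≤ V)
      (fracM (n := 0) v t hv ht nin (Or.inl (by simp))) =
      c • mres (_root_.GrTilde.tilde 𝒜 ℳ 0) inf_le_right (r x.1 ^ m • ρ x.1) := evM_ext fun y => by
    rw [evM_mres, evM_fracM, evM_smul, Ample.ProjTwist.ev_fracO, evM_mres, evM_smul, Ample.ProjTwist.ev_pow,
      Ample.ProjTwist.ev_fracO, evM_fracM, Localization.mk_pow, LocalizedModule.mk_smul_mk,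
      LocalizedModule.mk_smul_mk, LocalizedModule.mk_eq]
    refine ⟨1, ?_⟩
    simp only [one_smul, Submonoid.smul_def, Submonoid.coe_mul, SubmonoidClass.coe_pow, he, ← mul_smul]
    congr 1
    ring
  rw [← app_mres T, e, app_smul, app_mres T, app_smul]
  obtain ⟨d, hd⟩ := Nat.exists_eq_add_of_le (Finset.le_sup (f := m₀) x.2)
  rw [show m = S.sup m₀ from rfl, hd, add_comm, pow_add, mul_smul, hm₀, smul_zero,
    show mres F inf_le_right 0 = 0 from map_zero _, smul_zero]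
  exact (map_zero _).symm

set_option maxHeartbeats 1000000 in
theorem exists_tilde [F.IsQuasicoherent] [CompactSpace (Proj 𝒜)] {N : ℕ} (hN : Covers 𝒜 N) [Epi T] :
    Nonempty (_root_.GrTilde.tilde 𝒜 (quotGr ℳ (kerSub T)) 0 ≅ F) := by
  have hS := shortExact_quot 𝒜 ℳ (kerSub T) (isHom_kerSub T) 0
  let π := RegTilde27.map (𝒜 := 𝒜) (isShift_mkQ ℳ (kerSub T)) (add_zero 0)
  haveI : Epi π := hS.epi_g
  let Tb : _root_.GrTilde.tilde 𝒜 (quotGr ℳ (kerSub T)) 0 ⟶ F := hS.exact.desc T (map_subtype_comp T)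
  have hTb : π ≫ Tb = T := hS.exact.g_desc T (map_subtype_comp T)
  haveI : Epi Tb := by
    haveI : Epi (π ≫ Tb) := by rw [hTb]; infer_instance
    exact epi_of_epi π Tb
  have hinj : ∀ V : (Proj 𝒜).Opens, Function.Injective (Tb.app V) := fun V => by
    rw [injective_iff_map_eq_zero]
    intro σ hσ
    refine evM_ext fun y => ?_
    obtain ⟨W, hWV, hyW, τ, hτ⟩ := exists_lift (𝒜 := 𝒜) (isShift_mkQ ℳ (kerSub T)) (add_zero 0)
      (lifts_mkQ 𝒜 ℳ (kerSub T)) σ y.2 fun p q a s _ _ _ _ =>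
      ⟨0, 1, SetLike.GradedOne.one_mem, one_notMem' 𝒜 y.1, (kerSub T).mkQ_surjective _⟩
    have h0 : T.app W τ = 0 := by
      rw [← hTb]
      show Tb.app W (π.app W τ) = 0
      rw [hτ, app_mres Tb, hσ]
      exact map_zero _
    obtain ⟨b, hb, hyb⟩ := hN.2 y.1
    obtain ⟨p, q, a, w, hq, ha, hw, hd, hwy, hloc⟩ :=
      exists_local_frac 𝒜 τ hb hN.1 ⟨y.1, hyW⟩ hyb
    obtain ⟨-, hyW', he⟩ := hloc y.1 hwy
    have key : evM y σ = locLin 𝒜 (kerSub T).mkQ y.1 (LocalizedModule.mk a ⟨w, hwy⟩) := by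
      have h1 := congrArg (evM (⟨y.1, hyW⟩ : W)) hτ
      rw [RegTilde27.map_app, evM_mapSect, evM_mres, he] at h1
      exact h1.symm
    rw [key, locLin_mk, evM_zero]
    rcases hd with hd | hd
    · obtain hpq : p = q := by simpa using hd
      subst hpq
      obtain ⟨e, he'⟩ := exists_pow_mem T hN hq ha hw (by
        have hle : Proj.basicOpen 𝒜 w ≤ W := fun z hz => (hloc z hz).2.1
        rw [show fracM (n := 0) (V := Proj.basicOpen 𝒜 w) a w ha hw (fun y => y.2) (Or.inl (by simp)) =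
          mres (_root_.GrTilde.tilde 𝒜 ℳ 0) hle τ from evM_ext fun z => (hloc z.1 z.2).2.2.symm, app_mres T, h0]
        exact map_zero _)
      rw [← LocalizedModule.zero_mk (⟨w, hwy⟩ : y.1.asHomogeneousIdeal.toIdeal.primeCompl), LocalizedModule.mk_eq]
      refine ⟨⟨w ^ e, fun hm => hwy (y.1.isPrime.mem_of_pow_mem e hm)⟩, ?_⟩
      simp only [Submonoid.smul_def, smul_zero]
      rw [smul_comm, ← map_smul, show (kerSub T).mkQ (w ^ e • a) = 0 from (Submodule.Quotient.mk_eq_zero _).2 he',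
        smul_zero]
    · rw [hd, map_zero, LocalizedModule.zero_mk]
  haveI : Mono Tb := ⟨fun {Z} f g hfg => Scheme.Modules.hom_ext _ _ fun V => by
    ext x
    exact hinj V (congrArg (fun k : Z ⟶ F => k.app V x) hfg)⟩
  haveI := isIso_of_mono_of_epi Tb
  exact ⟨asIso Tb⟩

end GrothLib.GrNoeth9
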