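import Groth.Agent.Lib.GrNoeth9.Vanish
import Groth.Agent.Lib.RelProjK.Local
import Groth.Agent.Lib.ModDesc.Approx
import Groth.Agent.Lib.Euler.TensorSupport

/-!
# Coherence of all twists on Proj of a Noetherian graded ring, and of relative twists
-/

universe u

set_option autoImplicit false
set_option backward.isDefEq.respectTransparency false

open AlgebraicGeometry CategoryTheory CategoryTheory.Limits TopologicalSpace Opposite

noncomputable section

namespace GrothLib.GrNoeth9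

variable {R A : Type u} [CommRing R] [CommRing A] [Algebra R A] (𝒜 : ℕ → Submodule R A) [GradedAlgebra 𝒜]

theorem isCoh_twist [IsNoetherianRing A] (n : ℤ) : Coh.IsCoh (Twist.twist 𝒜 n) := by
  obtain ⟨N, hN, hc⟩ := exists_covers 𝒜
  haveI := hc
  obtain ⟨j, s, hjs⟩ : ∃ j s : ℕ, -(s : ℤ) + (j : ℤ) * (N : ℤ) = n := by
    refine ⟨n.toNat, (((n.toNat : ℤ) * (N : ℤ)) - n).toNat, ?_⟩
    have h1 : (n.toNat : ℤ) ≤ (n.toNat : ℤ) * (N : ℤ) := by
      exact_mod_cast Nat.le_mul_of_pos_right _ hN.1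
    omega
  obtain ⟨e⟩ := nonempty_twist_tensor hN (n := -(s : ℤ)) (j : ℤ) hjs
  obtain ⟨d⟩ := nonempty_tensorPow hN j
  have hA : CohB1.IsAmple (Twist.twist 𝒜 (N : ℤ)) := GrTilde.isAmple_twist_of_cover hN.1 hN.2
  have hi : PicF.IsInvertible (Twist.twist 𝒜 ((j : ℤ) * N)) :=
    RelProjK.isInvertible_of_iso d (Ample.isInvertible_tensorPow hA.1 j)
  have hs := isCoh_twist_neg 𝒜 s
  have hc' : Coh.IsCoh (Twist.twist 𝒜 ((j : ℤ) * N)) :=
    Euler.isCoh_of_isFinLocFree (Euler.isFinLocFree_of_isInvertible hi)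
  haveI : Coh.IsQCoh (Twist.twist 𝒜 (-(s : ℤ))) := hs.1
  haveI : Coh.IsQCoh (Twist.twist 𝒜 ((j : ℤ) * N)) := hc'.1
  obtain ⟨h1, h2⟩ := Groth.Agent.S2297.result (Twist.twist 𝒜 (-(s : ℤ))) (Twist.twist 𝒜 ((j : ℤ) * N))
  exact QCoh.isCoh_of_iso e ⟨h1, h2 hs.2 hc'.2⟩

/-- Coherence can be checked on the images of open immersions. -/
theorem isCoh_of_pullbacks {X : Scheme.{u}} {L : X.Modules} {ι : Type u} {Z : ι → Scheme.{u}} (j : ∀ i, Z i ⟶ X)
    [∀ i, IsOpenImmersion (j i)] (hcov : ∀ x : X, ∃ i, x ∈ (j i).opensRange)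
    (h : ∀ i, Coh.IsCoh ((Scheme.Modules.pullback (j i)).obj L)) : Coh.IsCoh L := by
  refine Euler.isCoh_of_restrict fun x => ?_
  obtain ⟨i, hi⟩ := hcov x
  refine ⟨(j i).opensRange, hi, ?_⟩
  refine QCoh.isCoh_of_iso ?_ (ModDesc.isCoh_pullback (j i).isoOpensRange.inv _ (h i))
  refine (Scheme.Modules.pullbackComp (j i).isoOpensRange.inv (j i)).app L ≪≫
    (Scheme.Modules.pullbackCongr ?_).app L ≪≫
    ((Scheme.Modules.restrictFunctorIsoPullback (j i).opensRange.ι).app L).symm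
  simp

open RelProj in
theorem isCoh_of_isRelTwist {S P : Scheme.{u}} [IsLocallyNoetherian S] {𝒮 : QCGrAlg S} {p : P ⟶ S}
    {chart : ∀ (U : S.Opens) (hU : IsAffineOpen U), (((p ⁻¹ᵁ U : P.Opens) : Scheme.{u}) ≅ Proj (𝒮.deg U hU))}
    {n : ℤ} {L : P.Modules}
    {lam : ∀ (U : S.Opens) (hU : IsAffineOpen U),
      L ⟶ (Scheme.Modules.pushforward (RelProj.emb p chart U hU)).obj (GrTwist.twist (𝒮.deg U hU) n)}
    (hft : ∀ (U : S.Opens) (_ : IsAffineOpen U), (𝒮.str.app (op U)).hom.FiniteType)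
    (hL : RelProj.IsRelTwist 𝒮 p chart n L lam) : Coh.IsCoh L := by
  refine isCoh_of_pullbacks (fun U : S.affineOpens => RelProjK.embZ p chart U.1 U.2) (fun x => ?_) fun U => ?_
  · obtain ⟨U, hU, hxU, -⟩ := exists_isAffineOpen_mem_and_subset (Opens.mem_top (p x))
    exact ⟨⟨U, hU⟩, (RelProjK.opensRange_embZ p chart U hU).ge hxU⟩
  · haveI : IsNoetherianRing Γ(S, U.1) := IsLocallyNoetherian.component_noetherian U
    letI : Algebra Γ(S, U.1) (𝒮.presheaf.obj (op U.1)) := (𝒮.str.app (op U.1)).hom.toAlgebra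
    haveI : Algebra.FiniteType Γ(S, U.1) (𝒮.presheaf.obj (op U.1)) := hft U.1 U.2
    haveI : IsNoetherianRing (𝒮.presheaf.obj (op U.1)) :=
      Algebra.FiniteType.isNoetherianRing Γ(S, U.1) _
    exact (RelProjK.nonempty_pullback_embZ_iso U.1 U.2 hL).elim fun e =>
      QCoh.isCoh_of_iso e.symm (isCoh_twist _ n)

end GrothLib.GrNoeth9
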