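import Groth.Agent.Lib.GrNoeth9.Presented

/-!
# Coherent modules on Proj of a Noetherian graded ring are `M~`
-/

universe u

set_option autoImplicit false
set_option backward.isDefEq.respectTransparency false

open AlgebraicGeometry CategoryTheory CategoryTheory.Limits TopologicalSpace Opposite

noncomputable section

namespace GrothLib.GrNoeth9

open GrothLib.GrTilde RegTilde27

variable {R A : Type u} [CommRing R] [CommRing A] [Algebra R A] {𝒜 : ℕ → Submodule R A} [GradedAlgebra 𝒜]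

theorem locLin_comp {M M' M'' : Type u} [AddCommGroup M] [Module R M] [Module A M] [AddCommGroup M'] [Module R M']
    [Module A M'] [AddCommGroup M''] [Module R M''] [Module A M''] (f : M →ₗ[A] M') (g : M' →ₗ[A] M'') (y : ProjectiveSpectrum 𝒜)
    (q : _root_.GrTilde.LocMod 𝒜 (M := M) y) : locLin 𝒜 g y (locLin 𝒜 f y q) = locLin 𝒜 (g.comp f) y q := by
  induction q using LocalizedModule.induction_on with
  | _ m s => rw [locLin_mk, locLin_mk, locLin_mk]; rfl

theorem map_single_proj (s k : ℕ) (j l : Fin k) :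
    RegTilde27.map (𝒜 := 𝒜) (isShift_single 𝒜 s k j) (add_zero (0 : ℤ)) ≫
        RegTilde27.map (𝒜 := 𝒜) (isShift_proj 𝒜 s k l) (zero_add (-(s : ℤ))) =
      if j = l then (negTwistIso 𝒜 s).hom else 0 := by
  refine Scheme.Modules.hom_ext _ _ fun V => ?_
  ext (σ : Γ(_root_.GrTilde.tilde 𝒜 (freeGr 𝒜 s 1) 0, V))
  refine evM_ext fun y => ?_
  rcases eq_or_ne j l with rfl | hne
  · rw [if_pos rfl]
    show locLin 𝒜 _ y.1 (locLin 𝒜 _ y.1 (evM y σ)) = locLin 𝒜 _ y.1 (evM y σ)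
    rw [locLin_comp]
    congr 2
    refine LinearMap.ext fun v => ?_
    show (Pi.single j (v 0) : Fin k → A) j = v 0
    rw [Pi.single_eq_same]
  · rw [if_neg hne]
    show locLin 𝒜 _ y.1 (locLin 𝒜 _ y.1 (evM y σ)) = 0
    rw [locLin_comp]
    have h0 : ((LinearMap.proj (R := A) (φ := fun _ : Fin k => A) l).comp
        ((LinearMap.single A (fun _ : Fin k => A) j).comp (LinearMap.proj (R := A) (φ := fun _ : Fin 1 => A) 0))) = 0 :=
      LinearMap.ext fun v => by
        show (Pi.single j (v 0) : Fin k → A) l = 0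
        rw [Pi.single_eq_of_ne hne.symm]
    rw [h0]
    induction evM y σ using LocalizedModule.induction_on with
    | _ m s => rw [locLin_mk, LinearMap.zero_apply, LocalizedModule.zero_mk]

theorem exists_epi_free_tilde {F : (Proj 𝒜).Modules} {s k : ℕ}
    (φ : (∐ fun _ : Fin k => _root_.GrTilde.tilde 𝒜 𝒜 (-(s : ℤ))) ⟶ F) [Epi φ] :
    ∃ T : _root_.GrTilde.tilde 𝒜 (freeGr 𝒜 s k) 0 ⟶ F, Epi T := by
  classical
  let fam : Fin k → (Proj 𝒜).Modules := fun _ => _root_.GrTilde.tilde 𝒜 𝒜 (-(s : ℤ))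
  let T : _root_.GrTilde.tilde 𝒜 (freeGr 𝒜 s k) 0 ⟶ F :=
    (∑ l : Fin k, RegTilde27.map (𝒜 := 𝒜) (isShift_proj 𝒜 s k l) (zero_add (-(s : ℤ))) ≫ Sigma.ι fam l) ≫ φ
  let q : (∐ fam) ⟶ _root_.GrTilde.tilde 𝒜 (freeGr 𝒜 s k) 0 :=
    Sigma.desc fun j => (negTwistIso 𝒜 s).inv ≫ RegTilde27.map (𝒜 := 𝒜) (isShift_single 𝒜 s k j) (add_zero (0 : ℤ))
  have hq : q ≫ T = φ := by
    refine Sigma.hom_ext _ _ fun j => ?_
    rw [Sigma.ι_desc_assoc, Category.assoc]
    simp only [T, Preadditive.sum_comp, Preadditive.comp_sum, Category.assoc]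
    rw [Finset.sum_eq_single j]
    · rw [reassoc_of% map_single_proj (𝒜 := 𝒜) s k j j]
      simp
    · intro l _ hl
      rw [reassoc_of% map_single_proj (𝒜 := 𝒜) s k j l]
      simp [Ne.symm hl]
    · exact fun h => (h (Finset.mem_univ j)).elim
  haveI : Epi (q ≫ T) := by rw [hq]; infer_instance
  exact ⟨T, epi_of_epi q T⟩

theorem exists_graded_tilde [IsNoetherianRing A] {F : (Proj 𝒜).Modules} (hF : Coh.IsCoh F) :
    ∃ (M : Type u) (_ : AddCommGroup M) (_ : Module R M) (_ : Module A M) (_ : IsScalarTower R A M)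
      (ℳ : ℕ → Submodule R M) (_ : DirectSum.Decomposition ℳ) (_ : SetLike.GradedSMul 𝒜 ℳ),
      Module.Finite A M ∧ Nonempty (_root_.GrTilde.tilde 𝒜 ℳ 0 ≅ F) := by
  obtain ⟨N, hN, hc⟩ := exists_covers 𝒜
  haveI := hc
  haveI : F.IsQuasicoherent := hF.1
  obtain ⟨n, k, p, hp⟩ := exists_epi_twist hN F hF.2
  have hs : -(n : ℤ) * N = -((n * N : ℕ) : ℤ) := by push_cast; ring
  obtain ⟨φ, hφ⟩ : ∃ φ : (∐ fun _ : Fin k => _root_.GrTilde.tilde 𝒜 𝒜 (-((n * N : ℕ) : ℤ))) ⟶ F, Epi φ :=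
    ⟨(Sigma.mapIso fun _ : Fin k => eqToIso (by rw [hs, twist_eq_tilde])).inv ≫ p, inferInstance⟩
  obtain ⟨T, hT⟩ := exists_epi_free_tilde φ
  exact ⟨(Fin k → A) ⧸ kerSub T, inferInstance, inferInstance, inferInstance, inferInstance,
    quotGr (freeGr 𝒜 (n * N) k) (kerSub T), decompositionQuot _ _ (isHom_kerSub T), inferInstance,
    inferInstance, exists_tilde T hN⟩

end GrothLib.GrNoeth9
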