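import Groth.Agent.Lib.GrNoeth9.Shift
import Groth.Agent.Lib.SerreVanish.Ample
import Groth.Agent.S2297

/-!
# Serre vanishing on Proj of a Noetherian graded ring
-/

universe u

set_option autoImplicit false
set_option backward.isDefEq.respectTransparency false

open AlgebraicGeometry CategoryTheory CategoryTheory.Limits TopologicalSpace Opposite

noncomputable section

namespace GrothLib.GrNoeth9

/-- Transport of a vanishing along twists. -/
theorem subsingleton_twist {X : Scheme.{u}} (B : Type u) [CommRing B] [X.Over (Spec (CommRingCat.of B))]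
    (F : X.Modules) {L P P' T : X.Modules} (e : P' ≅ P) (t : CohB1.tensorMod L P' ≅ T) (p : ℕ)
    (h : Subsingleton (Coh.HH X (CohB1.tensorMod (CohB1.tensorMod F L) P) p)) :
    Subsingleton (Coh.HH X (CohB1.tensorMod F T) p) :=
  haveI : Subsingleton (Coh.HH X (((DCoh.tensorBi (X := X)).obj (((DCoh.tensorBi (X := X)).obj F).obj L)).obj P) p) := h
  (Euler.hhEquiv (A := B) (OX.tensorAssoc F L P ≪≫ ((DCoh.tensorBi (X := X)).obj F).mapIso
    (((DCoh.tensorBi (X := X)).obj L).mapIso e.symm ≪≫ t)) p).toEquiv.symm.subsingleton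

theorem exists_quot_rem {N M D : ℕ} (hN : 0 < N) (hD : (M + 1) * N ≤ D) :
    ∃ m r, r < N ∧ M ≤ m ∧ m * N = D + r := by
  have h1 := Nat.div_add_mod D N
  have h2 := Nat.mod_lt D hN
  have h3 : M + 1 ≤ D / N := (Nat.le_div_iff_mul_le hN).2 hD
  rcases Nat.eq_zero_or_pos (D % N) with h0 | hpos
  · refine ⟨D / N, 0, hN, by omega, ?_⟩
    rw [Nat.mul_comm]; omega
  · refine ⟨D / N + 1, N - D % N, by omega, by omega, ?_⟩
    rw [Nat.add_mul, Nat.one_mul, Nat.mul_comm]; omega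

variable {R A : Type u} [CommRing R] [CommRing A] [Algebra R A] {𝒜 : ℕ → Submodule R A} [GradedAlgebra 𝒜]

theorem isCoh_twistBy_neg [IsNoetherianRing A] {F : (Proj 𝒜).Modules} (hF : Coh.IsCoh F) (s : ℕ) :
    Coh.IsCoh (CohB1.tensorMod F (Twist.twist 𝒜 (-(s : ℤ)))) := by
  haveI : Coh.IsQCoh F := hF.1
  haveI : Coh.IsQCoh (Twist.twist 𝒜 (-(s : ℤ))) := (isCoh_twist_neg 𝒜 s).1
  obtain ⟨h1, h2⟩ := Groth.Agent.S2297.result F (Twist.twist 𝒜 (-(s : ℤ)))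
  exact ⟨h1, h2 hF.2 (isCoh_twist_neg 𝒜 s).2⟩

theorem exists_vanish [IsNoetherianRing A] {F : (Proj 𝒜).Modules} (hF : Coh.IsCoh F) {p : ℕ} (hp : 0 < p) :
    ∃ d₀ : ℤ, ∀ d : ℤ, d₀ ≤ d → Subsingleton (Coh.HH (Proj 𝒜) (CohB1.tensorMod F (Twist.twist 𝒜 d)) p) := by
  obtain ⟨N, hN, hc⟩ := exists_covers 𝒜
  haveI := hc
  haveI : IsNoetherianRing (𝒜 0) := GradedAlg.isNoetherianRing_zero 𝒜
  haveI : Algebra.FiniteType (𝒜 0) A := ((GradedAlg.isNoetherianRing_iff 𝒜).mp inferInstance).2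
  letI : (Proj 𝒜).Over (Spec (CommRingCat.of (𝒜 0))) := ⟨Proj.toSpecZero 𝒜⟩
  haveI : IsProper (Proj 𝒜 ↘ Spec (CommRingCat.of (𝒜 0))) := inferInstanceAs (IsProper (Proj.toSpecZero 𝒜))
  have hA : CohB1.IsAmple (Twist.twist 𝒜 (N : ℤ)) := GrTilde.isAmple_twist_of_cover hN.1 hN.2
  choose n₀ hn₀ using fun r : Fin N =>
    SerreVanish.exists_forall_subsingleton (A := (𝒜 0)) hA (isCoh_twistBy_neg hF r.1)
  let M := Finset.univ.sup n₀
  refine ⟨(((M + 1) * N : ℕ) : ℤ), fun d hd => ?_⟩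
  obtain ⟨D, rfl⟩ := Int.eq_ofNat_of_zero_le ((Int.natCast_nonneg ((M + 1) * N)).trans hd)
  replace hd : (M + 1) * N ≤ D := by exact_mod_cast hd
  -- `D = m * N - r`
  obtain ⟨m, r, hr, hm, hD⟩ := exists_quot_rem hN.1 hd
  have hm' : n₀ ⟨r, hr⟩ ≤ m := (Finset.le_sup (f := n₀) (Finset.mem_univ _)).trans hm
  have hz : -(r : ℤ) + (m : ℤ) * (N : ℤ) = (D : ℤ) := by
    have : ((m * N : ℕ) : ℤ) = ((D + r : ℕ) : ℤ) := congrArg _ hD
    push_cast at this
    omega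
  obtain ⟨t⟩ := nonempty_twist_tensor hN (m : ℤ) hz
  obtain ⟨pw⟩ := nonempty_tensorPow hN m
  exact subsingleton_twist (𝒜 0) F pw t p (hn₀ ⟨r, hr⟩ m hm' p hp)

end GrothLib.GrNoeth9
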